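import Cfsg.Agent.H586.S8.Num
import Cfsg.Agent.H450.S8.Soc2
import Cfsg.Agent.H970.Ore.Deg
import Cfsg.Agent.H58.S8.Iso

/-!
# S4908: the row SOC2 of `Co₃` (helper586)
-/

set_option autoImplicit false
set_option maxRecDepth 100000

namespace Cfsg.Agent.H586.S8.Co3

open Cfsg Cfsg.Agent.H450.S8 Cfsg.Agent.H586.S8

universe u v

/-- the degrees -/
theorem num {X : Type v} [Group X] (hX : Spor.IsoCo3 X) :
    Num (charDegrees X) 495766656000 (resP H970.Ore.Deg.cd 21) := by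
  have := H970.Ore.Deg.fin hX
  have := H970.Ore.Deg.simple hX
  exact num_of (H970.Ore.Deg.not_comm hX) (H970.Ore.Deg.card hX) (H970.Ore.Deg.minDeg hX) H970.Ore.Deg.ok
    (H970.Ore.Deg.has hX)

theorem test : soc2Test 495766656000 (P1 495766656000 (resP H970.Ore.Deg.cd 21)) H970.Ore.Deg.facs = true := by
  decide +kernel

/-- **SOC2 for `Co₃`**, model version -/
theorem soc2_iso {X : Type v} [Group X] (hX : Spor.IsoCo3 X) {D : Set ℕ} (hD : H704.S8.Deg 1 X D) :
    H704.S8.Soc2.{u} D :=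
  soc2_one (num hX) (fun x hx => of_decide_eq_true (List.all_eq_true.1 H970.Ore.Deg.facs_prime x hx)) test hD

/-- **SOC2 for `Co₃`** -/
theorem soc2 {X : Type v} [Group X] [Finite X] (hX : Cfsg.IsCo3 X) {D : Set ℕ} (hD : H704.S8.Deg 1 X D) :
    H704.S8.Soc2.{u} D := soc2_iso (H58.S8.iso_co3 hX) hD

end Cfsg.Agent.H586.S8.Co3
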