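import Cfsg.Agent.H511.Ore.Deg
import Cfsg.Agent.H450.S8.Core

/-!
# S4908, SOC2: numerical descriptions of degree sets from the columns of ORE (helper586)

* `resP cds m d` : `d = 1` or `m ≤ d`, and `d` has the residues of the columns `cds`;
* `num_of` : `Num (charDegrees G) N (resP cds m)`; `num_iso` : transport.
-/

set_option autoImplicit false

namespace Cfsg.Agent.H586.S8

open Cfsg Cfsg.Agent.H450.S8
open Cfsg.Agent.H653.Sieve Cfsg.Agent.H651.Two Cfsg.Agent.H511.Ore

universe u v

/-- `d = 1` or `m ≤ d`, and the residues of the columns -/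
def resP (cds : List CD) (m d : ℕ) : Bool :=
  (Nat.beq d 1 || Nat.ble m d) && cds.all fun c => c.wl.any fun rw => Nat.beq (d % c.r) rw.1

theorem not_prime_card {G : Type u} [Group G] [Finite G] (hG : ¬ IsMulCommutative G) : ¬ (Nat.card G).Prime := by
  intro hpr
  have : Fact (Nat.card G).Prime := ⟨hpr⟩
  have hcyc : IsCyclic G := isCyclic_of_prime_card rfl
  exact hG IsCyclic.isMulCommutative

/-- **The degrees from the columns** -/
theorem num_of {G : Type u} [Group G] [Finite G] [IsSimpleGroup G] (hG : ¬ IsMulCommutative G) {N m : ℕ}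
    (hN : Nat.card G = N) (hm : MinDeg G m) {cds : List CD} (hok : (cds.all (CD.ok N)) = true)
    (hc : ∀ c ∈ cds, c.Has G) : Num (charDegrees G) N (resP cds m) where
  pos := hN ▸ Nat.card_pos
  dvd := by
    rintro _ ⟨χ, rfl⟩
    rw [← hN]
    exact charDegree_dvd χ
  ok := by
    rintro _ ⟨χ, rfl⟩
    rw [resP, Bool.and_eq_true, Bool.or_eq_true]
    refine ⟨?_, ?_⟩
    · by_cases h1 : (χ : G → ℂ) = 1
      · left
        have h2 : charDegree (χ : G → ℂ) = 1 := by
          have h3 := Blocks.Basic.irr_one_eq_charDegree χ.2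
          rw [h1, Pi.one_apply] at h3
          rw [h1]
          exact_mod_cast h3.symm
        rw [h2]
        rfl
      · right
        exact Nat.ble_eq_true_of_le (hm χ h1)
    · rw [List.all_eq_true]
      intro c hcm
      exact res_of_has hG hN (hc c hcm) (List.all_eq_true.1 hok c hcm) χ

/-- transport along an isomorphism -/
theorem num_iso {K : Type u} {T : Type v} [Group K] [Group T] (e : K ≃* T) {N : ℕ} {P : ℕ → Bool}
    (h : Num (charDegrees T) N P) : Num (charDegrees K) N P where
  pos := h.pos
  dvd hd := h.dvd (H424.DegTools.charDegrees_of_surjective e.symm.toMonoidHom e.symm.surjective hd)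
  ok hd := h.ok (H424.DegTools.charDegrees_of_surjective e.symm.toMonoidHom e.symm.surjective hd)

end Cfsg.Agent.H586.S8
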